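import Groth.Agent.H70.FibFlat.LocFree
import Groth.Agent.H44.FittSupport
import Groth.Agent.H44.FittComap
import Groth.Agent.H67.FreeNearFinite
import Groth.Agent.Lead.FittingLoc
import Groth.Agent.S8875
import Groth.Agent.S8873

/-!
# The locus of points of the base over which the fibre module is locally free of rank `n`
(helper70)
-/

set_option autoImplicit false
set_option linter.style.haveILetI false

open CategoryTheory Limits AlgebraicGeometry TopologicalSpace Opposite Topology

namespace Groth.Agent.H70.FibFlat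

universe u

variable {X S : Scheme.{u}}

/-- the support of an ideal sheaf of finite type is locally constructible -/
theorem isLocallyConstructible_support (I : X.IdealSheafData)
    (hI : ∀ U : X.affineOpens, (I.ideal U).FG) :
    IsLocallyConstructible (I.support : Set X) := by
  intro x
  obtain ⟨_, ⟨U, hU, rfl⟩, hxU, -⟩ :=
    X.isBasis_affineOpens.exists_subset_of_mem_open (Set.mem_univ x) isOpen_univ
  refine ⟨U, U.2.mem_nhds hxU, U.2, ?_⟩
  have hZ : IsConstructible (PrimeSpectrum.zeroLocus
      (I.ideal ⟨U, hU⟩ : Set Γ(X, U))) := by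
    have h := (PrimeSpectrum.isRetrocompact_zeroLocus_compl_of_fg (hI ⟨U, hU⟩)).isConstructible
      (PrimeSpectrum.isClosed_zeroLocus _).isOpen_compl
    simpa using h.compl
  have h2 := hU.isoSpec.hom.isConstructible_preimage hZ
  have heq : ((Subtype.val : ((U : Set X) : Type u) → X) ⁻¹' (I.support : Set X)) =
      ((fun y : U => hU.isoSpec.hom y) ⁻¹' (PrimeSpectrum.zeroLocus
        (I.ideal ⟨U, hU⟩ : Set Γ(X, U)))) := by
    ext ⟨y, hy⟩
    rw [Set.mem_preimage, Set.mem_preimage]
    change y ∈ I.support ↔ _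
    rw [Scheme.IdealSheafData.mem_support_iff_of_mem (U := ⟨U, hU⟩) hy,
      Groth.Agent.H44.mem_zeroLocus_iff_primeIdealOf hU _ hy]
    rfl
  rw [heq]
  exact h2


/-- a finite locally free module with `Fit_n` nowhere vanishing and `Fit_k`, `k < n`, vanishing at
every point is locally free of rank `n` -/
theorem isFinLocFreeOfRank_of_support {Z : Scheme.{u}} (G : Z.Modules) [G.IsQuasicoherent]
    [SheafOfModules.IsFiniteType (R := Z.ringCatSheaf) G]
    (hG : FlatMod.IsFinLocFree G) (n : ℕ)
    (h1 : ∀ z : Z, z ∉ (Fitt.sheafIdeal G n).support)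
    (h2 : ∀ k, k < n → ∀ z : Z, z ∈ (Fitt.sheafIdeal G k).support) :
    FlatMod.IsFinLocFreeOfRank n G := by
  intro z
  obtain ⟨_, ⟨V, hV', rfl⟩, hzV, -⟩ :=
    Z.isBasis_affineOpens.exists_subset_of_mem_open (Set.mem_univ z) isOpen_univ
  have hV : IsAffineOpen V := hV'
  obtain ⟨hfin, hproj⟩ := Groth.Agent.H44.finite_projective_of_isFinLocFree G hG hV
  set P := hV.primeIdealOf ⟨z, hzV⟩ with hP
  have hrank : Module.rankAtStalk Γ(G, V) P = n := by
    rw [Module.rankAtStalk_eq]
    apply le_antisymm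
    · rw [← Groth.Agent.Lead.not_fitt_ideal_le_iff_finrank]
      have h := h1 z
      rw [Scheme.IdealSheafData.mem_support_iff_of_mem (U := ⟨V, hV⟩) hzV,
        Groth.Agent.H44.mem_zeroLocus_iff_primeIdealOf hV _ hzV,
        Groth.Agent.H44.sheafIdeal_ideal, PrimeSpectrum.mem_zeroLocus] at h
      exact h
    · by_contra hlt
      push Not at hlt
      obtain ⟨k, hk⟩ : ∃ k, Module.finrank P.asIdeal.ResidueField
          (P.asIdeal.Fiber Γ(G, V)) = k := ⟨_, rfl⟩
      rw [hk] at hlt
      have h := h2 k hlt z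
      rw [Scheme.IdealSheafData.mem_support_iff_of_mem (U := ⟨V, hV⟩) hzV,
        Groth.Agent.H44.mem_zeroLocus_iff_primeIdealOf hV _ hzV,
        Groth.Agent.H44.sheafIdeal_ideal, PrimeSpectrum.mem_zeroLocus] at h
      exact (Groth.Agent.Lead.not_fitt_ideal_le_iff_finrank Γ(G, V) k P.asIdeal).2 hk.le h
  obtain ⟨f, hf, ⟨b'⟩⟩ := Groth.Agent.H67.SemilocalFree.exists_basis_away
    (fun _ : Unit => P.asIdeal) Γ(G, V) n (fun _ => hrank)
  letI := Groth.Agent.H44.basicOpenModule G f
  haveI := Groth.Agent.H44.isScalarTower_basicOpen G f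
  haveI := Groth.Agent.H44.isLocalizedModule_resBasicOpen G f hV
  haveI : IsLocalization (.powers f) Γ(Z, Z.basicOpen f) := hV.isLocalization_basicOpen f
  let b'' : Module.Basis (Fin n) Γ(Z, Z.basicOpen f) Γ(G, Z.basicOpen f) :=
    Groth.Agent.H44.basisOfLocalizedModule (.powers f) Γ(Z, Z.basicOpen f)
      (Groth.Agent.H44.resBasicOpen G f) b'
  obtain ⟨iso⟩ := Groth.Agent.H44.nonempty_iso_freeMod_of_basis G (hV.basicOpen f) b''
  exact ⟨Z.basicOpen f, (Groth.Agent.H8.notMem_primeIdealOf_iff hV hzV f).1 (hf ()), ⟨iso⟩⟩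


/-- local freeness of rank `n` in terms of local freeness and the supports of Fitting ideals -/
theorem isFinLocFreeOfRank_iff {Z : Scheme.{u}} (G : Z.Modules) [G.IsQuasicoherent]
    [SheafOfModules.IsFiniteType (R := Z.ringCatSheaf) G] (n : ℕ) :
    FlatMod.IsFinLocFreeOfRank n G ↔ FlatMod.IsFinLocFree G ∧
      (∀ z : Z, z ∉ (Fitt.sheafIdeal G n).support) ∧
      (∀ k, k < n → ∀ z : Z, z ∈ (Fitt.sheafIdeal G k).support) := by
  constructor
  · intro h
    have h' := (Groth.Agent.S8875.result Z G inferInstance inferInstance n).1 h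
    refine ⟨Groth.Agent.H67.FreeNearFinite.isFinLocFree_of_rank h, fun z => ?_, fun k hk z => ?_⟩
    · rw [h'.2 n le_rfl, Scheme.IdealSheafData.support_top]
      exact fun h => h
    · rw [h'.1 k hk, Scheme.IdealSheafData.support_bot]
      trivial
  · rintro ⟨hG, h1, h2⟩
    exact isFinLocFreeOfRank_of_support G hG n h1 h2

/-- the set of points of `X` used to describe the rank-`n` locus -/
def rankSet (f : X ⟶ S) (F : X.Modules) (n : ℕ) : Set X :=
  {x : X | FibFlat (𝟙 X) f F x} ∩ ((Fitt.sheafIdeal F n).support : Set X)ᶜ ∩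
    ⋂ k : Fin n, ((Fitt.sheafIdeal F k).support : Set X)

theorem isFinLocFreeOfRank_fibre_iff (f : X ⟶ S) (F : X.Modules) [F.IsQuasicoherent]
    [SheafOfModules.IsFinitePresentation (R := X.ringCatSheaf) F] (n : ℕ) (s : S) :
    FlatMod.IsFinLocFreeOfRank n ((Scheme.Modules.pullback (f.fiberι s)).obj F) ↔
      ∀ x : X, f x = s → x ∈ rankSet f F n := by
  haveI := Groth.Agent.H44.isFinitePresentation_pullback (f.fiberι s) F
  have hsupp : ∀ (k : ℕ) (z : ↥(f.fiber s)),
      z ∈ (Fitt.sheafIdeal ((Scheme.Modules.pullback (f.fiberι s)).obj F) k).support ↔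
        f.fiberι s z ∈ (Fitt.sheafIdeal F k).support := by
    intro k z
    rw [← Groth.Agent.H44.fitt_sheafIdeal_comap, Scheme.IdealSheafData.support_comap]
    rfl
  rw [isFinLocFreeOfRank_iff, isFinLocFree_fibre_iff f F s]
  constructor
  · rintro ⟨h0, h1, h2⟩ x hx
    obtain ⟨z, rfl⟩ : x ∈ Set.range (f.fiberι s) := by
      rw [f.range_fiberι s]; exact hx
    refine ⟨⟨h0 _ hx, ?_⟩, ?_⟩
    · intro hmem
      exact h1 z ((hsupp n z).2 hmem)
    · rw [Set.mem_iInter]
      intro k
      exact (hsupp k z).1 (h2 k k.2 z)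
  · intro H
    refine ⟨fun x hx => (H x hx).1.1, fun z hz => ?_, fun k hk z => ?_⟩
    · exact (H _ ((f.range_fiberι s).le ⟨z, rfl⟩)).1.2 ((hsupp n z).1 hz)
    · have := (H _ ((f.range_fiberι s).le ⟨z, rfl⟩)).2
      rw [Set.mem_iInter] at this
      exact (hsupp k z).2 (this ⟨k, hk⟩)

/-- **EGA IV 9.4.7-type statement**: the set of `s` such that `F_s` is locally free of rank `n`
is locally constructible. -/
theorem isLocallyConstructible_setOf_isFinLocFreeOfRank_fibre (f : X ⟶ S)
    [LocallyOfFinitePresentation f] [QuasiCompact f]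
    (F : X.Modules) [F.IsQuasicoherent]
    [SheafOfModules.IsFinitePresentation (R := X.ringCatSheaf) F] (n : ℕ) :
    IsLocallyConstructible
      {s : S | FlatMod.IsFinLocFreeOfRank n ((Scheme.Modules.pullback (f.fiberι s)).obj F)} := by
  have heq : {s : S | FlatMod.IsFinLocFreeOfRank n
      ((Scheme.Modules.pullback (f.fiberι s)).obj F)} = (f '' (rankSet f F n)ᶜ)ᶜ := by
    ext s
    rw [Set.mem_ofPred_eq, isFinLocFreeOfRank_fibre_iff f F n s, Set.mem_compl_iff, Set.mem_image]
    constructor
    · rintro hsub ⟨x, hx, rfl⟩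
      exact hx (hsub x rfl)
    · intro h x hx
      by_contra hc
      exact h ⟨x, hc, hx⟩
  rw [heq]
  haveI : LocallyOfFinitePresentation (𝟙 X ≫ f) := by
    rw [Category.id_comp]; infer_instance
  have hT : IsLocallyConstructible (rankSet f F n) := by
    refine ((isLocallyConstructible (𝟙 X) f F).inter (isLocallyConstructible_compl
      (isLocallyConstructible_support _ (Groth.Agent.S8873.result X F inferInstance n)))).inter
      (IsLocallyConstructible.iInter fun k => ?_)
    exact isLocallyConstructible_support _ (Groth.Agent.S8873.result X F inferInstance k)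
  exact isLocallyConstructible_compl (f.isLocallyConstructible_image
    (isLocallyConstructible_compl hT))

end Groth.Agent.H70.FibFlat
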