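import Groth.Agent.H70.FibFlat.Model
import Groth.Agent.H71.QCoh.FlatOverPullback

/-!
# Invariance properties of fibrewise flatness (helper70)

* `fibFlat_iff_of_iso`: isomorphic modules;
* `fibFlat_baseChange`: arbitrary base change `S' ⟶ S`;
* `fibFlat_source`: restriction to an open subscheme of `X`;
* `fibFlat_target`: shrinking `Y` to an open subscheme containing the image of `X`.
-/

set_option autoImplicit false
set_option linter.style.haveILetI false

open CategoryTheory Limits AlgebraicGeometry TopologicalSpace Opposite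
open Groth.Agent.H1.FibreCrit Groth.Agent.H70.RelFlatBC

namespace Groth.Agent.H70.FibFlat

universe u

variable {X Y S : Scheme.{u}}

theorem fibFlat_iff_of_iso (f : X ⟶ Y) (h : Y ⟶ S) {F G : X.Modules} (e : F ≅ G) (x : X) :
    FibFlat f h F x ↔ FibFlat f h G x :=
  isFlatOverAt_iff_of_iso _
    ((Scheme.Modules.pullback ((f ≫ h).fiberι ((f ≫ h) x))).mapIso e) _

/-- relative flatness is insensitive to composing the structure map with an open immersion -/
theorem isFlatOverAt_comp_openImmersion_iff {V : Scheme.{u}} (f' : X ⟶ V) (j : V ⟶ Y)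
    [IsOpenImmersion j] (G : X.Modules) [G.IsQuasicoherent] (x : X) :
    FlatMod.IsFlatOverAt (f' ≫ j) G x ↔ FlatMod.IsFlatOverAt f' G x := by
  have sq : IsPullback (𝟙 X) f' (f' ≫ j) j := IsPullback.of_horiz_isIso_mono ⟨by simp⟩
  let iso : (Scheme.Modules.pullback (𝟙 X)).obj G ≅ G := (Scheme.Modules.pullbackId X).app G
  constructor
  · intro hfl
    have h1 := Groth.Agent.H71.QCoh.isFlatOverAt_baseChange sq G x hfl
    exact isFlatOverAt_of_iso f' iso x h1
  · intro hfl
    have h1 := isFlatOverAt_of_iso f' iso.symm x hfl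
    exact isFlatOverAt_of_isFlatOverAt_pullback sq G x (Flat.stalkMap j _) h1

section baseChange

variable {X' Y' S' : Scheme.{u}} (f : X ⟶ Y) (h : Y ⟶ S) (f' : X' ⟶ Y') (h' : Y' ⟶ S')
  (eX : X' ⟶ X) (eY : Y' ⟶ Y) (b : S' ⟶ S)

/-- **base change**: fibrewise flatness of the base-changed family at `x'` is fibrewise flatness
of the original family at the image of `x'`. -/
theorem fibFlat_baseChange (F : X.Modules) [F.IsQuasicoherent]
    (hY : IsPullback eY h' h b) (hX : IsPullback eX f' f eY) (x' : X') :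
    FibFlat f' h' ((Scheme.Modules.pullback eX).obj F) x' ↔ FibFlat f h F (eX x') := by
  set s' : S' := (f' ≫ h') x' with hs'
  -- the canonical model of the base-changed family
  have hYc : IsPullback (h'.fiberι s') (h'.fiberToSpecResidueField s') h'
      (S'.fromSpecResidueField s') := IsPullback.of_hasPullback h' (S'.fromSpecResidueField s')
  have hXc : IsPullback ((f' ≫ h').fiberι s') (MoreMor.fiberMap f' h' s') f' (h'.fiberι s') :=
    isPullback_fiberMap f' h' s'
  -- as a model of the original family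
  have hY' : IsPullback (h'.fiberι s' ≫ eY) (h'.fiberToSpecResidueField s') h
      (S'.fromSpecResidueField s' ≫ b) := hYc.paste_horiz hY
  have hX' : IsPullback ((f' ≫ h').fiberι s' ≫ eX) (MoreMor.fiberMap f' h' s') f
      (h'.fiberι s' ≫ eY) := hXc.paste_horiz hX
  have ht : S'.fromSpecResidueField s' ≫ b =
      Spec.map (b.residueFieldMap s') ≫ S.fromSpecResidueField (b s') :=
    (Scheme.Hom.SpecMap_residueFieldMap_fromSpecResidueField b s').symm
  -- the point of the canonical fibre of the original family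
  have hmem : eX x' ∈ (f ≫ h) ⁻¹' {b s'} := by
    change (f ≫ h) (eX x') = b s'
    have := congrArg (fun φ : X' ⟶ S => φ x') (hX.paste_vert hY).w
    exact this
  rw [← (f ≫ h).range_fiberι (b s')] at hmem
  obtain ⟨x₀, hx₀⟩ := hmem
  have key := model_iff f h F (b s') ((f' ≫ h').fiberι s' ≫ eX) (h'.fiberι s' ≫ eY)
    (MoreMor.fiberMap f' h' s') (h'.fiberToSpecResidueField s')
    (S'.fromSpecResidueField s' ≫ b) (Spec.map (b.residueFieldMap s')) ht hY' hX'
    ((f' ≫ h').asFiber x') x₀ (by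
      rw [hx₀, Scheme.Hom.comp_apply, Scheme.Hom.fiberι_asFiber])
  rw [fibFlat_iff f h F (eX x') (b s') x₀ hx₀, ← key]
  exact isFlatOverAt_iff_of_iso _
    ((Scheme.Modules.pullbackComp ((f' ≫ h').fiberι s') eX).app F) _

end baseChange

section source

variable {U : Scheme.{u}} (j : U ⟶ X) [IsOpenImmersion j] (f : X ⟶ Y) (h : Y ⟶ S)

/-- **restriction to an open subscheme of the source** -/
theorem fibFlat_source (F : X.Modules) [F.IsQuasicoherent] (u : U) :
    FibFlat (j ≫ f) h ((Scheme.Modules.pullback j).obj F) u ↔ FibFlat f h F (j u) := by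
  set s : S := ((j ≫ f) ≫ h) u with hs
  -- the canonical model of the big family
  have hYc : IsPullback (h.fiberι s) (h.fiberToSpecResidueField s) h
      (S.fromSpecResidueField s) := IsPullback.of_hasPullback h (S.fromSpecResidueField s)
  have hXc : IsPullback ((f ≫ h).fiberι s) (MoreMor.fiberMap f h s) f (h.fiberι s) :=
    isPullback_fiberMap f h s
  -- points
  have hmem : j u ∈ (f ≫ h) ⁻¹' {s} := rfl
  rw [← (f ≫ h).range_fiberι s] at hmem
  obtain ⟨x₀, hx₀⟩ := hmem
  have hmem' : u ∈ ((j ≫ f) ≫ h) ⁻¹' {s} := rfl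
  rw [← ((j ≫ f) ≫ h).range_fiberι s] at hmem'
  obtain ⟨u₀, hu₀⟩ := hmem'
  obtain ⟨z, hz1, hz2⟩ := Scheme.Pullback.exists_preimage_pullback
    (f := (f ≫ h).fiberι s) (g := j) x₀ u hx₀
  -- the model of the small family
  have hX' : IsPullback (pullback.snd ((f ≫ h).fiberι s) j)
      (pullback.fst ((f ≫ h).fiberι s) j ≫ MoreMor.fiberMap f h s) (j ≫ f) (h.fiberι s) :=
    (IsPullback.of_hasPullback ((f ≫ h).fiberι s) j).flip.paste_vert hXc
  have key := model_iff (j ≫ f) h ((Scheme.Modules.pullback j).obj F) s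
    (pullback.snd ((f ≫ h).fiberι s) j) (h.fiberι s)
    (pullback.fst ((f ≫ h).fiberι s) j ≫ MoreMor.fiberMap f h s) (h.fiberToSpecResidueField s)
    (S.fromSpecResidueField s) (𝟙 _) (by simp) hYc hX' z u₀ (by rw [hu₀, hz2])
  rw [fibFlat_iff (j ≫ f) h _ u s u₀ hu₀, ← key, fibFlat_iff f h F (j u) s x₀ hx₀, ← hz1]
  rw [Groth.Agent.H71.QCoh.isFlatOverAt_pullback_iff (pullback.fst ((f ≫ h).fiberι s) j)
    (MoreMor.fiberMap f h s) ((Scheme.Modules.pullback ((f ≫ h).fiberι s)).obj F) z
    (Flat.stalkMap _ _)]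
  exact isFlatOverAt_iff_of_iso _
    ((Scheme.Modules.pullbackComp (pullback.snd ((f ≫ h).fiberι s) j) j).app F ≪≫
      (Scheme.Modules.pullbackCongr (pullback.condition (f := (f ≫ h).fiberι s) (g := j)).symm).app F ≪≫
      ((Scheme.Modules.pullbackComp (pullback.fst ((f ≫ h).fiberι s) j)
        ((f ≫ h).fiberι s)).app F).symm) _

end source

section target

variable {V : Scheme.{u}} (f' : X ⟶ V) (j : V ⟶ Y) [IsOpenImmersion j] (h : Y ⟶ S)

/-- **shrinking the target** -/
theorem fibFlat_target (F : X.Modules) [F.IsQuasicoherent] (x : X) :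
    FibFlat f' (j ≫ h) F x ↔ FibFlat (f' ≫ j) h F x := by
  set s : S := ((f' ≫ j) ≫ h) x with hs
  -- the canonical model of the big family
  have hYc : IsPullback (h.fiberι s) (h.fiberToSpecResidueField s) h
      (S.fromSpecResidueField s) := IsPullback.of_hasPullback h (S.fromSpecResidueField s)
  have hXc : IsPullback (((f' ≫ j) ≫ h).fiberι s) (MoreMor.fiberMap (f' ≫ j) h s) (f' ≫ j)
      (h.fiberι s) := isPullback_fiberMap (f' ≫ j) h s
  -- points
  have hmem : x ∈ ((f' ≫ j) ≫ h) ⁻¹' {s} := rfl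
  rw [← ((f' ≫ j) ≫ h).range_fiberι s] at hmem
  obtain ⟨x₀, hx₀⟩ := hmem
  have hmem' : x ∈ (f' ≫ j ≫ h) ⁻¹' {s} := rfl
  rw [← (f' ≫ j ≫ h).range_fiberι s] at hmem'
  obtain ⟨x₁, hx₁⟩ := hmem'
  -- the model of the small family
  have hY' : IsPullback (pullback.snd (h.fiberι s) j)
      (pullback.fst (h.fiberι s) j ≫ h.fiberToSpecResidueField s) (j ≫ h)
      (S.fromSpecResidueField s) :=
    (IsPullback.of_hasPullback (h.fiberι s) j).flip.paste_vert hYc
  have w : MoreMor.fiberMap (f' ≫ j) h s ≫ h.fiberι s =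
      ((((f' ≫ j) ≫ h).fiberι s) ≫ f') ≫ j :=
    hXc.w.symm.trans (Category.assoc _ _ _).symm
  let fs : (((f' ≫ j) ≫ h).fiber s : Scheme.{u}) ⟶ pullback (h.fiberι s) j :=
    pullback.lift (MoreMor.fiberMap (f' ≫ j) h s) ((((f' ≫ j) ≫ h).fiberι s) ≫ f') w
  have hfs1 : fs ≫ pullback.fst (h.fiberι s) j = MoreMor.fiberMap (f' ≫ j) h s :=
    pullback.lift_fst _ _ _
  have hfs2 : fs ≫ pullback.snd (h.fiberι s) j = (((f' ≫ j) ≫ h).fiberι s) ≫ f' :=
    pullback.lift_snd _ _ _
  have hX' : IsPullback (((f' ≫ j) ≫ h).fiberι s) fs f' (pullback.snd (h.fiberι s) j) := by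
    refine IsPullback.of_bot ?_ hfs2.symm (IsPullback.of_hasPullback (h.fiberι s) j).flip
    rw [hfs1]; exact hXc
  have key := model_iff f' (j ≫ h) F s (((f' ≫ j) ≫ h).fiberι s)
    (pullback.snd (h.fiberι s) j) fs
    (pullback.fst (h.fiberι s) j ≫ h.fiberToSpecResidueField s)
    (S.fromSpecResidueField s) (𝟙 _) (by simp) hY' hX' x₀ x₁ (by rw [hx₁, hx₀])
  rw [fibFlat_iff f' (j ≫ h) F x s x₁ hx₁, ← key, fibFlat_iff (f' ≫ j) h F x s x₀ hx₀, ← hfs1]
  exact (isFlatOverAt_comp_openImmersion_iff fs (pullback.fst (h.fiberι s) j) _ x₀).symm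

end target

end Groth.Agent.H70.FibFlat
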