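import Groth.Agent.H70.FibFlat.Noeth
import Groth.Agent.H49.ModuleModelScheme
import Groth.Agent.H24.UnivOpen
import Groth.Agent.S0591
import Groth.Agent.S9218

/-!
# Noetherian approximation of `X ⟶ Y ⟶ S` with a finitely presented module on `X` (helper70)

All three schemes affine.  Built from helper49's `ModuleModelScheme.main` (one morphism and a
module), helper24's system of finitely generated subalgebras, `S0591` (descent of finitely
presented schemes) and `S9218` (descent of morphisms).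
-/

set_option autoImplicit false
set_option linter.style.haveILetI false

open CategoryTheory Limits AlgebraicGeometry TopologicalSpace Opposite Topology

namespace Groth.Agent.H70.FibFlat

universe u

open Groth.Agent in
set_option backward.isDefEq.respectTransparency false in
set_option maxHeartbeats 1600000 in
theorem exists_noetherian_model {X Y S : Scheme.{u}} [IsAffine X] [IsAffine Y] [IsAffine S]
    (f : X ⟶ Y) (h : Y ⟶ S)
    [LocallyOfFinitePresentation h] [LocallyOfFinitePresentation (f ≫ h)]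
    (F : X.Modules) [F.IsQuasicoherent]
    [SheafOfModules.IsFinitePresentation (R := X.ringCatSheaf) F] :
    ∃ (A₀ : CommRingCat.{u}) (_ : IsNoetherianRing A₀) (X₀ Y₀ : Scheme.{u}) (f₀ : X₀ ⟶ Y₀)
      (h₀ : Y₀ ⟶ Spec A₀) (b : S ⟶ Spec A₀) (eY : Y ⟶ Y₀) (eX : X ⟶ X₀) (F₀ : X₀.Modules),
      IsPullback eY h h₀ b ∧ IsPullback eX f f₀ eY ∧ LocallyOfFiniteType h₀ ∧
      LocallyOfFiniteType (f₀ ≫ h₀) ∧ QuasiCompact (f₀ ≫ h₀) ∧ F₀.IsQuasicoherent ∧
      SheafOfModules.IsFinitePresentation (R := X₀.ringCatSheaf) F₀ ∧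
      Nonempty ((Scheme.Modules.pullback eX).obj F₀ ≅ F) := by
  have hFfp : CohB1.IsFP F := inferInstance
  obtain ⟨X₁, S₁, g₁, s₁, gX₁, hX₁aff, hS₁aff, hpb₁, hft₁, hlft₁, F₁, hF₁coh, ⟨isoF⟩⟩ :=
    Groth.Agent.H49.ModuleModelScheme.main (f ≫ h) F hFfp
  -- Noetherianity of the first model
  have hN₁ : IsNoetherianRing Γ(S₁, ⊤) := Algebra.FiniteType.isNoetherianRing ℤ _
  have hLN₁ : IsLocallyNoetherian S₁ := isLocallyNoetherian_of_isOpenImmersion S₁.isoSpec.hom
  have hfp₁ : LocallyOfFinitePresentation g₁ := inferInstance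
  haveI : IsLocallyNoetherian X₁ := LocallyOfFiniteType.isLocallyNoetherian g₁
  haveI : F₁.IsQuasicoherent := hF₁coh.1
  haveI : SheafOfModules.IsFiniteType (R := X₁.ringCatSheaf) F₁ := hF₁coh.2
  haveI : SheafOfModules.IsFinitePresentation (R := X₁.ringCatSheaf) F₁ :=
    Groth.Agent.H70.RegLocus.isFinitePresentation_of_isFiniteType F₁
  -- the system of finitely generated subalgebras
  let φ : Γ(S₁, ⊤) ⟶ Γ(S, ⊤) := s₁.appTop
  letI := φ.hom.toAlgebra
  let Fd := H24.fgSubDiagram φ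
  let D : (H24.FGSub φ)ᵒᵖ ⥤ Scheme.{u} := Fd.op ⋙ Scheme.Spec
  obtain ⟨hc₀⟩ := H24.isColimit_fgSubCocone φ
  let c₀ : Cone D := Scheme.Spec.mapCone (H24.fgSubCocone φ).op
  have hc₀' : IsLimit c₀ := isLimitOfPreserves Scheme.Spec hc₀.op
  let c : Cone D := c₀.extend S.isoSpec.hom
  have hc : IsLimit c := IsLimit.extendIso _ hc₀'
  have haff : ∀ (i j : (H24.FGSub φ)ᵒᵖ) (g : i ⟶ j), IsAffineHom (D.map g) := fun _ _ g => by
    dsimp [D]; infer_instance
  have hDaff : ∀ i, IsAffine (D.obj i) := fun i => by dsimp [D]; infer_instance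
  have hDc : ∀ i, CompactSpace (D.obj i) := fun i => inferInstance
  have hDqs : ∀ i, QuasiSeparatedSpace (D.obj i) := fun i => inferInstance
  let s₁' : ∀ i, D.obj i ⟶ S₁ := fun i => Spec.map (H24.fgSubStr φ i.unop) ≫ S₁.isoSpec.inv
  have hs₁ : ∀ i, c.π.app i ≫ s₁' i = s₁ := by
    intro i
    change (S.isoSpec.hom ≫ Spec.map ((H24.fgSubCocone φ).ι.app i.unop)) ≫
      Spec.map (H24.fgSubStr φ i.unop) ≫ S₁.isoSpec.inv = s₁
    rw [Category.assoc, ← Category.assoc (Spec.map _), ← Spec.map_comp, H24.fgSubStr_ι,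
      ← Category.assoc, Scheme.isoSpec_hom_naturality, Category.assoc, Iso.hom_inv_id,
      Category.comp_id]
  -- descend `Y`
  have hqc : QuasiCompact h := inferInstance
  have hqs : QuasiSeparated h := inferInstance
  obtain ⟨i, Yi, hi, qY, hhi1, hhi2, hhi3, hYi⟩ :=
    @Groth.Agent.S0591.result _ _ _ D c hc haff hDc hDqs Y h inferInstance hqc hqs
  -- `X` at stage `i`
  let xi : pullback g₁ (s₁' i) ⟶ D.obj i := pullback.snd g₁ (s₁' i)
  have hwX : gX₁ ≫ g₁ = ((f ≫ h) ≫ c.π.app i) ≫ s₁' i := by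
    rw [Category.assoc, hs₁, hpb₁.w]
  let qX : X ⟶ pullback g₁ (s₁' i) := pullback.lift gX₁ ((f ≫ h) ≫ c.π.app i) hwX
  have hXi : IsPullback qX (f ≫ h) xi (c.π.app i) := by
    refine IsPullback.of_right ?_ (pullback.lift_snd _ _ _)
      (IsPullback.of_hasPullback g₁ (s₁' i))
    rw [pullback.lift_fst, hs₁]; exact hpb₁
  have hxi1 : LocallyOfFinitePresentation xi := inferInstance
  haveI : IsAffine (D.obj i) := hDaff i
  have hcX : CompactSpace ↥(pullback g₁ (s₁' i)) :=
    QuasiCompact.compactSpace_of_compactSpace (pullback.fst g₁ (s₁' i))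
  have hqX : QuasiSeparatedSpace ↥(pullback g₁ (s₁' i)) :=
    quasiSeparatedSpace_of_quasiSeparated (pullback.fst g₁ (s₁' i))
  have hcY : CompactSpace ↥Yi := QuasiCompact.compactSpace_of_compactSpace hi
  have hqY : QuasiSeparatedSpace ↥Yi := quasiSeparatedSpace_of_quasiSeparated hi
  obtain ⟨j, φj, fj, sX, sY, h1, h2, h3, h4, h5, h6⟩ :=
    @Groth.Agent.S9218.result _ _ _ D c hc haff i _ _ xi hi hcX hqX hxi1 hcY hqY hhi1
      _ _ qX (f ≫ h) hXi qY h hYi f rfl
  have hYj : IsPullback sY h (pullback.snd hi (D.map φj)) (c.π.app j) := by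
    refine IsPullback.of_right (h₁₂ := pullback.fst hi (D.map φj)) (h₂₂ := D.map φj)
      (v₁₃ := hi) ?_ h5 (IsPullback.of_hasPullback hi (D.map φj))
    rw [h4, c.w]
    exact hYi
  have hXj : IsPullback sX (f ≫ h) (pullback.snd xi (D.map φj)) (c.π.app j) := by
    refine IsPullback.of_right (h₁₂ := pullback.fst xi (D.map φj)) (h₂₂ := D.map φj)
      (v₁₃ := xi) ?_ h3 (IsPullback.of_hasPullback xi (D.map φj))
    rw [h2, c.w]
    exact hXi
  have hXj' : IsPullback sX (f ≫ h) (fj ≫ pullback.snd hi (D.map φj)) (c.π.app j) := by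
    rw [h1]; exact hXj
  have hXY : IsPullback sX f fj sY := IsPullback.of_bot hXj' h6 hYj
  -- Noetherianity of the stage
  have hNj : IsNoetherianRing (Fd.obj j.unop) := by
    have h1 : Algebra.FiniteType Γ(S₁, ⊤) j.unop.1 :=
      (Subalgebra.fg_iff_finiteType j.unop.1).mp j.unop.2
    have hft : Algebra.FiniteType ℤ j.unop.1 := Algebra.FiniteType.trans hft₁ h1
    exact Algebra.FiniteType.isNoetherianRing ℤ j.unop.1
  -- the module
  let pr : pullback xi (D.map φj) ⟶ X₁ :=
    pullback.fst xi (D.map φj) ≫ pullback.fst g₁ (s₁' i)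
  have hpr : sX ≫ pr = gX₁ := by
    change sX ≫ pullback.fst xi (D.map φj) ≫ pullback.fst g₁ (s₁' i) = gX₁
    rw [← Category.assoc, h2]
    exact pullback.lift_fst _ _ _
  refine ⟨Fd.obj j.unop, hNj, pullback xi (D.map φj), pullback hi (D.map φj), fj,
    pullback.snd hi (D.map φj), c.π.app j, sY, sX, (Scheme.Modules.pullback pr).obj F₁,
    hYj, hXY, ?_, ?_, ?_, inferInstance,
    Groth.Agent.H44.isFinitePresentation_pullback pr F₁, ⟨?_⟩⟩
  · haveI : LocallyOfFinitePresentation (pullback.snd hi (D.map φj)) :=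
      MorphismProperty.pullback_snd _ _ hhi1
    infer_instance
  · rw [h1]
    haveI : LocallyOfFinitePresentation (pullback.snd xi (D.map φj)) :=
      MorphismProperty.pullback_snd _ _ hxi1
    infer_instance
  · rw [h1]
    infer_instance
  · exact (Scheme.Modules.pullbackComp sX pr).app F₁ ≪≫
      (Scheme.Modules.pullbackCongr hpr).app F₁ ≪≫ isoF

end Groth.Agent.H70.FibFlat
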