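import Groth.Agent.H70.FibFlat.Main
import Groth.Agent.H70.RelFlatBC.FreeLocus
import Groth.Agent.H71.QCoh.StalkFree
import Groth.Agent.H71.QCoh.FlatSections
import Groth.Agent.H44.LocFree
import Groth.Agent.H44.FPSections

/-!
# The locus of points of the base over which the fibre module is locally free (helper70)

For `f : X ⟶ S` of finite presentation and `F` finitely presented quasi-coherent on `X`, the set of
`s ∈ S` such that `F_s` is finite locally free on `X_s` is locally constructible: it is the
complement of the image of the complement of the fibrewise flat locus of `X = X ⟶ S`.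
-/

set_option autoImplicit false
set_option linter.style.haveILetI false

open CategoryTheory Limits AlgebraicGeometry TopologicalSpace Opposite Topology

namespace Groth.Agent.H70.FibFlat

universe u

/-- complements of locally constructible sets are locally constructible -/
theorem isLocallyConstructible_compl {α : Type*} [TopologicalSpace α] {s : Set α}
    (hs : IsLocallyConstructible s) : IsLocallyConstructible sᶜ := by
  intro x
  obtain ⟨U, hxU, hU, hsU⟩ := hs x
  refine ⟨U, hxU, hU, ?_⟩
  have : (Subtype.val ⁻¹' sᶜ : Set U) = (Subtype.val ⁻¹' s)ᶜ := rfl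
  rw [this]
  exact hsU.compl

variable {X S : Scheme.{u}}

/-- fibrewise flatness for `X = X ⟶ S` is flatness of the stalk of `F_s` over the local ring of
the fibre `X_s`. -/
theorem fibFlat_id_iff (f : X ⟶ S) (F : X.Modules) [F.IsQuasicoherent] (s : S)
    (x' : (f.fiber s : Scheme.{u})) :
    FibFlat (𝟙 X) f F (f.fiberι s x') ↔
      FlatMod.IsFlatAt ((Scheme.Modules.pullback (f.fiberι s)).obj F) x' := by
  have hY : IsPullback (f.fiberι s) (f.fiberToSpecResidueField s) f
      (S.fromSpecResidueField s) := IsPullback.of_hasPullback f (S.fromSpecResidueField s)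
  have hX : IsPullback (f.fiberι s) (𝟙 (f.fiber s : Scheme.{u})) (𝟙 X) (f.fiberι s) :=
    IsPullback.of_vert_isIso ⟨by simp⟩
  have hmem : f.fiberι s x' ∈ (𝟙 X ≫ f) ⁻¹' {s} := by
    have h1 : f.fiberι s x' ∈ Set.range (f.fiberι s) := ⟨x', rfl⟩
    rw [f.range_fiberι s] at h1
    exact h1
  rw [← (𝟙 X ≫ f).range_fiberι s] at hmem
  obtain ⟨x₀, hx₀⟩ := hmem
  have key := model_iff (𝟙 X) f F s (f.fiberι s) (f.fiberι s) (𝟙 (f.fiber s : Scheme.{u}))
    (f.fiberToSpecResidueField s) (S.fromSpecResidueField s) (𝟙 _) (by simp) hY hX x' x₀ hx₀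
  rw [fibFlat_iff (𝟙 X) f F _ s x₀ hx₀, ← key]
  exact Groth.Agent.H70.RelFlatBC.isFlatOverAt_id_iff _ x'

/-- `F_s` is finite locally free iff `F` is fibrewise flat (for `X = X ⟶ S`) at all points of
the fibre. -/
theorem isFinLocFree_fibre_iff (f : X ⟶ S) (F : X.Modules) [F.IsQuasicoherent]
    [SheafOfModules.IsFinitePresentation (R := X.ringCatSheaf) F] (s : S) :
    FlatMod.IsFinLocFree ((Scheme.Modules.pullback (f.fiberι s)).obj F) ↔
      ∀ x : X, f x = s → FibFlat (𝟙 X) f F x := by
  haveI := Groth.Agent.H44.isFinitePresentation_pullback (f.fiberι s) F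
  constructor
  · intro hG x hx
    obtain ⟨x', rfl⟩ : x ∈ Set.range (f.fiberι s) := by
      rw [f.range_fiberι s]; exact hx
    rw [fibFlat_id_iff]
    haveI := Groth.Agent.H71.QCoh.free_stalks_of_isFinLocFree _ hG x'
    exact Module.Flat.of_free
  · intro H
    have hflat : ∀ x' : ↥(f.fiber s), FlatMod.IsFlatAt
        ((Scheme.Modules.pullback (f.fiberι s)).obj F) x' := by
      intro x'
      rw [← fibFlat_id_iff]
      exact H _ ((f.range_fiberι s).le ⟨x', rfl⟩)
    refine Groth.Agent.H44.isFinLocFree_of_forall_exists_affine _ (fun x' => ?_)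
    obtain ⟨_, ⟨V, hV, rfl⟩, hxV, -⟩ :=
      (f.fiber s).isBasis_affineOpens.exists_subset_of_mem_open (Set.mem_univ x') isOpen_univ
    haveI := Groth.Agent.H44.finitePresentation_sections_of_isFinitePresentation
      ((Scheme.Modules.pullback (f.fiberι s)).obj F) hV
    haveI := Groth.Agent.H71.QCoh.flat_sections_of_isFlatAt
      ((Scheme.Modules.pullback (f.fiberι s)).obj F) hV (fun x _ => hflat x)
    exact ⟨V, hV, hxV, inferInstance, Module.Flat.projective_of_finitePresentation⟩

/-- the locus of `s` over which the fibre module is finite locally free, as a complement of an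
image. -/
theorem setOf_isFinLocFree_fibre_eq (f : X ⟶ S) (F : X.Modules) [F.IsQuasicoherent]
    [SheafOfModules.IsFinitePresentation (R := X.ringCatSheaf) F] :
    {s : S | FlatMod.IsFinLocFree ((Scheme.Modules.pullback (f.fiberι s)).obj F)} =
      (f '' {x : X | FibFlat (𝟙 X) f F x}ᶜ)ᶜ := by
  ext s
  rw [Set.mem_ofPred_eq, isFinLocFree_fibre_iff f F s, Set.mem_compl_iff, Set.mem_image]
  constructor
  · rintro hsub ⟨x, hx, rfl⟩
    exact hx (hsub x rfl)
  · intro h x hx
    by_contra hc
    exact h ⟨x, hc, hx⟩

/-- **EGA IV 9.4.7-type statement**: the set of `s` such that `F_s` is finite locally free is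
locally constructible. -/
theorem isLocallyConstructible_setOf_isFinLocFree_fibre (f : X ⟶ S)
    [LocallyOfFinitePresentation f] [QuasiCompact f]
    (F : X.Modules) [F.IsQuasicoherent]
    [SheafOfModules.IsFinitePresentation (R := X.ringCatSheaf) F] :
    IsLocallyConstructible
      {s : S | FlatMod.IsFinLocFree ((Scheme.Modules.pullback (f.fiberι s)).obj F)} := by
  rw [setOf_isFinLocFree_fibre_eq]
  haveI : LocallyOfFinitePresentation (𝟙 X ≫ f) := by
    rw [Category.id_comp]; infer_instance
  exact isLocallyConstructible_compl (f.isLocallyConstructible_image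
    (isLocallyConstructible_compl (isLocallyConstructible (𝟙 X) f F)))

end Groth.Agent.H70.FibFlat
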