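import Groth.Agent.H70.FibFlat.Approx

/-!
# The fibrewise flat locus is locally constructible (helper70)

EGA IV 11.2.8 / 9.9-type statement: for `f : X ⟶ Y`, `h : Y ⟶ S` with `h` and `f ≫ h` locally of
finite presentation and `F` a finitely presented quasi-coherent module on `X`, the set of `x ∈ X`
such that `F_s` is flat over `Y_s` at `x` is locally constructible in `X`.
-/

set_option autoImplicit false
set_option linter.style.haveILetI false

open CategoryTheory Limits AlgebraicGeometry TopologicalSpace Opposite Topology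

namespace Groth.Agent.H70.FibFlat

universe u

variable {X Y S : Scheme.{u}}

/-- the affine case: Noetherian approximation. -/
theorem isConstructible_of_isAffine [IsAffine X] [IsAffine Y] [IsAffine S]
    (f : X ⟶ Y) (h : Y ⟶ S)
    [LocallyOfFinitePresentation h] [LocallyOfFinitePresentation (f ≫ h)]
    (F : X.Modules) [F.IsQuasicoherent]
    [SheafOfModules.IsFinitePresentation (R := X.ringCatSheaf) F] :
    IsConstructible {x : X | FibFlat f h F x} := by
  obtain ⟨A₀, hN, X₀, Y₀, f₀, h₀, b, eY, eX, F₀, hY, hX, i1, i2, i3, i4, i5, ⟨iso⟩⟩ :=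
    exists_noetherian_model f h F
  have hc := isConstructible_of_noetherian A₀ f₀ h₀ F₀
  have hE : {x : X | FibFlat f h F x} = eX ⁻¹' {x | FibFlat f₀ h₀ F₀ x} := by
    ext x
    rw [Set.mem_preimage, Set.mem_ofPred_eq, Set.mem_ofPred_eq,
      ← fibFlat_baseChange f₀ h₀ f h eX eY b F₀ hY hX x]
    exact fibFlat_iff_of_iso f h iso.symm x
  rw [hE]
  exact Scheme.Hom.isConstructible_preimage _ hc

/-- **the fibrewise flat locus is locally constructible.** -/
theorem isLocallyConstructible (f : X ⟶ Y) (h : Y ⟶ S)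
    [LocallyOfFinitePresentation h] [LocallyOfFinitePresentation (f ≫ h)]
    (F : X.Modules) [F.IsQuasicoherent]
    [SheafOfModules.IsFinitePresentation (R := X.ringCatSheaf) F] :
    IsLocallyConstructible {x : X | FibFlat f h F x} := by
  intro x
  obtain ⟨W, hW, hxW⟩ : ∃ W : S.Opens, IsAffineOpen W ∧ h (f x) ∈ W := by
    obtain ⟨_, ⟨W, hW, rfl⟩, hxW, -⟩ := S.isBasis_affineOpens.exists_subset_of_mem_open
      (Set.mem_univ (h (f x))) isOpen_univ
    exact ⟨W, hW, hxW⟩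
  obtain ⟨V, hV, hxV, hVW⟩ : ∃ V : Y.Opens, IsAffineOpen V ∧ f x ∈ V ∧ V ≤ h ⁻¹ᵁ W := by
    obtain ⟨_, ⟨V, hV, rfl⟩, hxV, hVW⟩ := Y.isBasis_affineOpens.exists_subset_of_mem_open
      (show f x ∈ ((h ⁻¹ᵁ W : Y.Opens) : Set Y) from hxW) (h ⁻¹ᵁ W).isOpen
    exact ⟨V, hV, hxV, hVW⟩
  obtain ⟨U, hU, hxU, hUV⟩ : ∃ U : X.Opens, IsAffineOpen U ∧ x ∈ U ∧ U ≤ f ⁻¹ᵁ V := by
    obtain ⟨_, ⟨U, hU, rfl⟩, hxU, hUV⟩ := X.isBasis_affineOpens.exists_subset_of_mem_open
      (show x ∈ ((f ⁻¹ᵁ V : X.Opens) : Set X) from hxV) (f ⁻¹ᵁ V).isOpen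
    exact ⟨U, hU, hxU, hUV⟩
  refine ⟨U, U.2.mem_nhds hxU, U.2, ?_⟩
  haveI : IsAffine (U : Scheme.{u}) := hU
  haveI : IsAffine (V : Scheme.{u}) := hV
  haveI : IsAffine (W : Scheme.{u}) := hW
  let fUV : (U : Scheme.{u}) ⟶ (V : Scheme.{u}) := f.resLE V U hUV
  let hVW' : (V : Scheme.{u}) ⟶ (W : Scheme.{u}) := h.resLE W V hVW
  let FU : (U : Scheme.{u}).Modules := (Scheme.Modules.pullback U.ι).obj F
  haveI : SheafOfModules.IsFinitePresentation (R := (U : Scheme.{u}).ringCatSheaf) FU :=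
    Groth.Agent.H44.isFinitePresentation_pullback U.ι F
  have hfU : fUV ≫ V.ι = U.ι ≫ f := Scheme.Hom.resLE_comp_ι f hUV
  have hhV : hVW' ≫ W.ι = V.ι ≫ h := Scheme.Hom.resLE_comp_ι h hVW
  haveI : LocallyOfFinitePresentation (fUV ≫ hVW') := by
    rw [Scheme.Hom.resLE_comp_resLE]; infer_instance
  have hc := isConstructible_of_isAffine fUV hVW' FU
  have hE : {u : (U : Scheme.{u}) | FibFlat fUV hVW' FU u} =
      {u : (U : Scheme.{u}) | FibFlat f h F (U.ι u)} := by
    ext u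
    simp only [Set.mem_ofPred_eq]
    rw [← fibFlat_source U.ι f h F u, ← hfU, ← fibFlat_target fUV V.ι h FU u, ← hhV]
    have hY : IsPullback (𝟙 (V : Scheme.{u})) hVW' (hVW' ≫ W.ι) W.ι :=
      IsPullback.of_horiz_isIso_mono ⟨by simp⟩
    have hX : IsPullback (𝟙 (U : Scheme.{u})) fUV fUV (𝟙 (V : Scheme.{u})) :=
      IsPullback.of_horiz_isIso ⟨by simp⟩
    have key := fibFlat_baseChange fUV (hVW' ≫ W.ι) fUV hVW' (𝟙 _) (𝟙 _) W.ι FU hY hX u
    have e : FU ≅ (Scheme.Modules.pullback (𝟙 (U : Scheme.{u}))).obj FU :=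
      ((Scheme.Modules.pullbackId (U : Scheme.{u})).app FU).symm
    exact (fibFlat_iff_of_iso fUV hVW' e u).trans key
  rw [hE] at hc
  exact hc

/-- the set of the statement of S5948: fibrewise flatness tested on arbitrary models of the
fibres over the residue field. -/
theorem forall_model_iff_fibFlat (f : X ⟶ Y) (h : Y ⟶ S) (F : X.Modules) [F.IsQuasicoherent]
    (x : X) :
    (∀ (Xs Ys : Scheme.{u}) (ιX : Xs ⟶ X) (ιY : Ys ⟶ Y) (fs : Xs ⟶ Ys)
      (pY : Ys ⟶ Spec (S.residueField ((f ≫ h).base x))),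
      IsPullback ιY pY h (S.fromSpecResidueField ((f ≫ h).base x)) → IsPullback ιX fs f ιY →
        ∀ x' : ↥Xs, ιX.base x' = x →
          FlatMod.IsFlatOverAt fs ((Scheme.Modules.pullback ιX).obj F) x') ↔
      FibFlat f h F x := by
  constructor
  · intro H
    exact H _ _ _ _ _ _ (IsPullback.of_hasPullback h (S.fromSpecResidueField ((f ≫ h) x)))
      (Groth.Agent.H70.RelFlatBC.isPullback_fiberMap f h ((f ≫ h) x)) ((f ≫ h).asFiber x)
      (Scheme.Hom.fiberι_asFiber _ _)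
  · intro H Xs Ys ιX ιY fs pY hY hX x' hx'
    rw [model_iff f h F ((f ≫ h) x) ιX ιY fs pY (S.fromSpecResidueField ((f ≫ h) x)) (𝟙 _)
      (by simp) hY hX x' ((f ≫ h).asFiber x)
      ((Scheme.Hom.fiberι_asFiber _ _).trans hx'.symm)]
    exact H

end Groth.Agent.H70.FibFlat
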