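import Groth.Agent.H70.RelFlatBC.Main

/-!
# Fibrewise flatness of a module relative to a base (helper70)

For `f : X ⟶ Y`, `h : Y ⟶ S` and a quasi-coherent module `F` on `X`, the condition
"`F_s` is flat over `Y_s` at `x`" (`s` the image of `x` in `S`).  We define it with the canonical
fibres and show that it can be tested on any model of the fibres over any flat `T ⟶ Spec κ(s)`
(in particular over any field extension of `κ(s)`).
-/

set_option autoImplicit false
set_option linter.style.haveILetI false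

open CategoryTheory Limits AlgebraicGeometry TopologicalSpace Opposite
open Groth.Agent.H1.FibreCrit Groth.Agent.H70.RelFlatBC

namespace Groth.Agent.H70.FibFlat

universe u

variable {X Y S : Scheme.{u}}

/-- fibrewise flatness of `F` over `Y` relative to `S` at the point `x`: the pullback of `F` to the
fibre `X_s` is flat over `Y_s` at the point `x`, where `s` is the image of `x`. -/
def FibFlat (f : X ⟶ Y) (h : Y ⟶ S) (F : X.Modules) (x : X) : Prop :=
  FlatMod.IsFlatOverAt (MoreMor.fiberMap f h ((f ≫ h) x))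
    ((Scheme.Modules.pullback ((f ≫ h).fiberι ((f ≫ h) x))).obj F) ((f ≫ h).asFiber x)

/-- fibrewise flatness, tested in the canonical fibre over a point `s` propositionally equal to
the image of `x`. -/
theorem fibFlat_iff (f : X ⟶ Y) (h : Y ⟶ S) (F : X.Modules) (x : X) (s : S)
    (x₀ : ((f ≫ h).fiber s : Scheme.{u})) (hx₀ : (f ≫ h).fiberι s x₀ = x) :
    FibFlat f h F x ↔ FlatMod.IsFlatOverAt (MoreMor.fiberMap f h s)
      ((Scheme.Modules.pullback ((f ≫ h).fiberι s)).obj F) x₀ := by
  have hs : (f ≫ h) x = s := by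
    have hmem : x ∈ Set.range ((f ≫ h).fiberι s) := ⟨x₀, hx₀⟩
    rw [(f ≫ h).range_fiberι s] at hmem
    exact hmem
  subst hs
  have : x₀ = (f ≫ h).asFiber x :=
    ((f ≫ h).fiberι _).isEmbedding.injective (by rw [hx₀, Scheme.Hom.fiberι_asFiber])
  subst this
  rfl

section model

variable (f : X ⟶ Y) (h : Y ⟶ S) (F : X.Modules) [F.IsQuasicoherent] (s : S)
  {T Xs Ys : Scheme.{u}} (ιX : Xs ⟶ X) (ιY : Ys ⟶ Y) (fs : Xs ⟶ Ys) (pY : Ys ⟶ T) (t : T ⟶ S)
  (ρ : T ⟶ Spec (S.residueField s))

/-- **model independence**: fibrewise flatness can be tested on any model of the fibres over a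
flat `T ⟶ Spec κ(s)`. -/
theorem model_iff [Flat ρ] (ht : t = ρ ≫ S.fromSpecResidueField s)
    (hY : IsPullback ιY pY h t) (hX : IsPullback ιX fs f ιY)
    (x' : Xs) (x₀ : ((f ≫ h).fiber s : Scheme.{u})) (hx₀ : (f ≫ h).fiberι s x₀ = ιX x') :
    FlatMod.IsFlatOverAt fs ((Scheme.Modules.pullback ιX).obj F) x' ↔
      FlatMod.IsFlatOverAt (MoreMor.fiberMap f h s)
        ((Scheme.Modules.pullback ((f ≫ h).fiberι s)).obj F) x₀ := by
  -- the canonical model
  have hYc : IsPullback (h.fiberι s) (h.fiberToSpecResidueField s) h (S.fromSpecResidueField s) :=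
    IsPullback.of_hasPullback h (S.fromSpecResidueField s)
  have hXc : IsPullback ((f ≫ h).fiberι s) (MoreMor.fiberMap f h s) f (h.fiberι s) :=
    isPullback_fiberMap f h s
  -- the comparison maps
  have wY : ιY ≫ h = (pY ≫ ρ) ≫ S.fromSpecResidueField s := by
    rw [hY.w, ht, Category.assoc]
  let eY : Ys ⟶ (h.fiber s : Scheme.{u}) := hYc.lift ιY (pY ≫ ρ) wY
  have heY1 : eY ≫ h.fiberι s = ιY := hYc.lift_fst _ _ _
  have heY2 : eY ≫ h.fiberToSpecResidueField s = pY ≫ ρ := hYc.lift_snd _ _ _
  have wX : ιX ≫ f = (fs ≫ eY) ≫ h.fiberι s := by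
    rw [Category.assoc, heY1, hX.w]
  let eX : Xs ⟶ ((f ≫ h).fiber s : Scheme.{u}) := hXc.lift ιX (fs ≫ eY) wX
  have heX1 : eX ≫ (f ≫ h).fiberι s = ιX := hXc.lift_fst _ _ _
  have heX2 : eX ≫ MoreMor.fiberMap f h s = fs ≫ eY := hXc.lift_snd _ _ _
  -- the squares
  have hsqY : IsPullback eY pY (h.fiberToSpecResidueField s) ρ := by
    refine IsPullback.of_right ?_ heY2 hYc
    rw [heY1, ← ht]
    exact hY
  have hsqX : IsPullback eX fs (MoreMor.fiberMap f h s) eY := by
    refine IsPullback.of_right ?_ heX2 hXc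
    rw [heX1, heY1]
    exact hX
  haveI : Flat eY := MorphismProperty.of_isPullback (P := @Flat) hsqY.flip inferInstance
  -- the point
  have hpt : eX x' = x₀ := by
    apply ((f ≫ h).fiberι s).isEmbedding.injective
    rw [hx₀, ← Scheme.Hom.comp_apply, heX1]
  -- the modules
  let iso : (Scheme.Modules.pullback eX).obj
      ((Scheme.Modules.pullback ((f ≫ h).fiberι s)).obj F) ≅
      (Scheme.Modules.pullback ιX).obj F :=
    (Scheme.Modules.pullbackComp eX ((f ≫ h).fiberι s)).app F ≪≫
      (Scheme.Modules.pullbackCongr heX1).app F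
  constructor
  · intro hfl
    have h1 := isFlatOverAt_of_iso fs iso.symm x' hfl
    have h2 := isFlatOverAt_of_isFlatOverAt_pullback hsqX
      ((Scheme.Modules.pullback ((f ≫ h).fiberι s)).obj F) x' (Flat.stalkMap eY _) h1
    rw [hpt] at h2
    exact h2
  · intro hfl
    rw [← hpt] at hfl
    have h1 := Groth.Agent.H71.QCoh.isFlatOverAt_baseChange hsqX
      ((Scheme.Modules.pullback ((f ≫ h).fiberι s)).obj F) x' hfl
    exact isFlatOverAt_of_iso fs iso x' h1

end model

end Groth.Agent.H70.FibFlat
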