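import Groth.Agent.H70.FibFlat.Invariance
import Groth.Agent.H70.RelFlatBC.Pointwise
import Groth.Agent.H70.FlatLocusGeo.Main
import Groth.Agent.H70.RegLocus.Noeth
import Groth.Agent.H49.FibrePropConstr
import Groth.Agent.H44.FpqcFP
import Groth.Agent.H44.PullbackFT
import Groth.Agent.S4698

/-!
# The fibrewise flat locus over a Noetherian affine base is constructible (helper70)

Noetherian induction on the base with generic flatness, following the pattern of helper49's
`FibrePropConstr`.
-/

set_option autoImplicit false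
set_option linter.style.haveILetI false

open CategoryTheory Limits AlgebraicGeometry TopologicalSpace Opposite Topology
open Groth.Agent.H1.FibreCrit Groth.Agent.H70.RelFlatBC

namespace Groth.Agent.H70.FibFlat

universe u

/-- points of a pullback square -/
theorem exists_preimage_of_isPullback {P X Y S : Scheme.{u}} {fst : P ⟶ X} {snd : P ⟶ Y}
    {f : X ⟶ S} {g : Y ⟶ S} (hp : IsPullback fst snd f g) (x : X) (y : Y) (h : f x = g y) :
    ∃ z : P, fst z = x ∧ snd z = y := by
  obtain ⟨z, hz1, hz2⟩ := Scheme.Pullback.exists_preimage_pullback x y h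
  refine ⟨hp.isoPullback.inv z, ?_, ?_⟩
  · rw [← Scheme.Hom.comp_apply, IsPullback.isoPullback_inv_fst]; exact hz1
  · rw [← Scheme.Hom.comp_apply, IsPullback.isoPullback_inv_snd]; exact hz2

variable {X Y S : Scheme.{u}}

/-- **fibre criterion**: at a point where `F` is flat over `S`, fibrewise flatness over `Y` is
flatness over `Y`. -/
theorem fibFlat_iff_isFlatOverAt_of_flat (f : X ⟶ Y) (h : Y ⟶ S)
    [LocallyOfFinitePresentation (f ≫ h)] [LocallyOfFiniteType h]
    (F : X.Modules) [F.IsQuasicoherent]
    [SheafOfModules.IsFinitePresentation (R := X.ringCatSheaf) F] (x : X)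
    (hfl : FlatMod.IsFlatOverAt (f ≫ h) F x) :
    FibFlat f h F x ↔ FlatMod.IsFlatOverAt f F x := by
  set s : S := (f ≫ h) x with hs
  have hpt : (f ≫ h).fiberι s ((f ≫ h).asFiber x) = x := Scheme.Hom.fiberι_asFiber _ _
  constructor
  · intro hx
    have hY : IsPullback (h.fiberι s) (h.fiberToSpecResidueField s) h
        (S.fromSpecResidueField s) := IsPullback.of_hasPullback h (S.fromSpecResidueField s)
    have hX : IsPullback ((f ≫ h).fiberι s)
        (MoreMor.fiberMap f h s ≫ h.fiberToSpecResidueField s) (f ≫ h)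
        (S.fromSpecResidueField s) := by
      rw [fiberMap_fiberToSpecResidueField]
      exact IsPullback.of_hasPullback (f ≫ h) (S.fromSpecResidueField s)
    have hfl' : FlatMod.IsFlatOverAt (f ≫ h) F ((f ≫ h).fiberι s ((f ≫ h).asFiber x)) := by
      rw [hpt]; exact hfl
    have key := isFlatOverAt_of_isFlatOverAt_baseChange_pt f h (S.fromSpecResidueField s)
      (h.fiberι s) (h.fiberToSpecResidueField s) ((f ≫ h).fiberι s) (MoreMor.fiberMap f h s) F
      hY hX (fiberMap_fiberι f h s).symm ((f ≫ h).asFiber x) hfl' hx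
    rw [hpt] at key
    exact key
  · intro hx
    have hx' : FlatMod.IsFlatOverAt f F ((f ≫ h).fiberι s ((f ≫ h).asFiber x)) := by
      rw [hpt]; exact hx
    exact Groth.Agent.H71.QCoh.isFlatOverAt_baseChange (isPullback_fiberMap f h s) F
      ((f ≫ h).asFiber x) hx'

set_option maxHeartbeats 1600000 in
/-- **Noetherian affine base**: Noetherian induction with generic flatness. -/
theorem isConstructible_of_noetherian (A : CommRingCat.{u}) [IsNoetherianRing A]
    {X Y : Scheme.{u}} (f : X ⟶ Y) (h : Y ⟶ Spec A)
    [LocallyOfFiniteType h] [LocallyOfFiniteType (f ≫ h)] [QuasiCompact (f ≫ h)]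
    (F : X.Modules) [F.IsQuasicoherent]
    [SheafOfModules.IsFinitePresentation (R := X.ringCatSheaf) F] :
    IsConstructible {x : X | FibFlat f h F x} := by
  haveI : IsLocallyNoetherian X := LocallyOfFiniteType.isLocallyNoetherian (f ≫ h)
  haveI : CompactSpace X := QuasiCompact.compactSpace_of_compactSpace (f ≫ h)
  haveI : IsNoetherian X := {}
  haveI : NoetherianSpace X := inferInstance
  haveI : NoetherianSpace ↥(Spec A) := inferInstanceAs (NoetherianSpace (PrimeSpectrum A))
  suffices H : ∀ T : Set ↥(Spec A), IsClosed T →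
      IsConstructible ({x : X | FibFlat f h F x} ∩ (f ≫ h) ⁻¹' T) by
    simpa using H Set.univ isClosed_univ
  apply Groth.Agent.H12.irreducible_closed_induction
  · simp
  · intro T1 T2 _ _ h1 h2
    rw [Set.preimage_union, Set.inter_union_distrib_left]
    exact h1.union h2
  · intro T hTc hTi ih
    let p : Ideal A := PrimeSpectrum.vanishingIdeal (T : Set (PrimeSpectrum A))
    have hp : p.IsPrime := PrimeSpectrum.isIrreducible_iff_vanishingIdeal_isPrime.mp hTi
    have hT : PrimeSpectrum.zeroLocus (p : Set A) = T :=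
      (PrimeSpectrum.zeroLocus_vanishingIdeal_eq_closure _).trans hTc.closure_eq
    let ι : Spec (.of (A ⧸ p)) ⟶ Spec A := Spec.map (CommRingCat.ofHom (Ideal.Quotient.mk p))
    have hrange : Set.range ι = T := by
      have := _root_.range_comap_of_surjective (A ⧸ p) (Ideal.Quotient.mk p)
        Ideal.Quotient.mk_surjective
      rw [Ideal.mk_ker] at this
      rw [← hT, ← this]
      rfl
    haveI : IsClosedImmersion ι :=
      IsClosedImmersion.spec_of_surjective _ Ideal.Quotient.mk_surjective
    have : IsDomain (A ⧸ p) := Ideal.Quotient.isDomain p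
    haveI : IsIntegral (Spec (.of (A ⧸ p))) := inferInstance
    haveI : IsNoetherianRing (A ⧸ p) := inferInstance
    haveI : IsLocallyNoetherian (Spec (.of (A ⧸ p))) := inferInstance
    -- the base change
    let eY := pullback.fst h ι
    let hT' := pullback.snd h ι
    let eX := pullback.fst f eY
    let fT := pullback.snd f eY
    have hY : IsPullback eY hT' h ι := IsPullback.of_hasPullback h ι
    have hX : IsPullback eX fT f eY := IsPullback.of_hasPullback f eY
    have hXS : IsPullback eX (fT ≫ hT') (f ≫ h) ι := hX.paste_vert hY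
    let FT := (Scheme.Modules.pullback eX).obj F
    haveI : FT.IsQuasicoherent := inferInstance
    haveI : SheafOfModules.IsFinitePresentation (R := (pullback f eY).ringCatSheaf) FT :=
      Groth.Agent.H44.isFinitePresentation_pullback eX F
    haveI hlft1 : LocallyOfFiniteType hT' :=
      MorphismProperty.of_isPullback (P := @LocallyOfFiniteType) hY inferInstance
    haveI hlft2 : LocallyOfFiniteType (fT ≫ hT') :=
      MorphismProperty.of_isPullback (P := @LocallyOfFiniteType) hXS inferInstance
    haveI hqc2 : QuasiCompact (fT ≫ hT') :=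
      MorphismProperty.of_isPullback (P := @QuasiCompact) hXS inferInstance
    haveI : IsClosedImmersion eY :=
      MorphismProperty.of_isPullback (P := @IsClosedImmersion) hY.flip inferInstance
    haveI : IsClosedImmersion eX :=
      MorphismProperty.of_isPullback (P := @IsClosedImmersion) hX.flip inferInstance
    haveI : IsLocallyNoetherian (pullback h ι) := LocallyOfFiniteType.isLocallyNoetherian hT'
    haveI : LocallyOfFinitePresentation (fT ≫ hT') :=
      Groth.Agent.H70.RegLocus.locallyOfFinitePresentation_of_isLocallyNoetherian _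
    haveI : LocallyOfFiniteType fT := locallyOfFiniteType_of_comp fT hT'
    haveI : LocallyOfFinitePresentation fT :=
      Groth.Agent.H70.RegLocus.locallyOfFinitePresentation_of_isLocallyNoetherian _
    have hcoh : Coh.IsCoh FT :=
      ⟨inferInstance, SheafOfModules.instIsFiniteTypeOfIsFinitePresentation.{u, u, u}
        (R := (pullback f eY).ringCatSheaf) FT⟩
    obtain ⟨UT, hUTne, hUTfl⟩ := Groth.Agent.S4698.result (fT ≫ hT') FT hcoh
    -- the open piece
    have hOflat : IsOpen {z : ↥(pullback f eY) | FlatMod.IsFlatOverAt fT FT z} :=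
      Groth.Agent.H70.FlatLocusGeo.isOpen_setOf_isFlatOverAt fT FT
    have hO : IsOpen ({z : ↥(pullback f eY) | FlatMod.IsFlatOverAt fT FT z} ∩
        (fT ≫ hT') ⁻¹' (UT : Set ↥(Spec (.of (A ⧸ p))))) :=
      hOflat.inter (UT.isOpen.preimage (fT ≫ hT').continuous)
    have hcrit : ∀ z : ↥(pullback f eY), (fT ≫ hT') z ∈ UT →
        (FibFlat fT hT' FT z ↔ FlatMod.IsFlatOverAt fT FT z) := fun z hz =>
      fibFlat_iff_isFlatOverAt_of_flat fT hT' FT z (hUTfl z hz)
    have hbc : ∀ z : ↥(pullback f eY), FibFlat fT hT' FT z ↔ FibFlat f h F (eX z) := fun z =>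
      fibFlat_baseChange f h fT hT' eX eY ι F hY hX z
    -- the proper closed subset
    have hιc : IsClosedEmbedding ι := ι.isClosedEmbedding
    have hT'c : IsClosed (ι '' ((UT : Set ↥(Spec (.of (A ⧸ p))))ᶜ)) :=
      hιc.isClosedMap _ UT.isOpen.isClosed_compl
    have hT'ss : ι '' ((UT : Set ↥(Spec (.of (A ⧸ p))))ᶜ) ⊂ T := by
      refine ⟨?_, ?_⟩
      · rintro _ ⟨t, -, rfl⟩
        rw [← hrange]; exact Set.mem_range_self t
      · intro hcon
        obtain ⟨t, ht⟩ := hUTne
        have : ι t ∈ T := by rw [← hrange]; exact Set.mem_range_self t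
        obtain ⟨t', ht', htt'⟩ := hcon this
        rw [hιc.injective htt'] at ht'
        exact ht' ht
    have ih' := ih _ hT'c hT'ss
    have hpiece : IsConstructible (eX '' ({z : ↥(pullback f eY) | FlatMod.IsFlatOverAt fT FT z} ∩
        (fT ≫ hT') ⁻¹' (UT : Set ↥(Spec (.of (A ⧸ p)))))) :=
      Groth.Agent.H49.FibrePropConstr.isConstructible_image_of_isClosedEmbedding
        eX.isClosedEmbedding hO
    have hdecomp : {x : X | FibFlat f h F x} ∩ (f ≫ h) ⁻¹' T =
        ({x : X | FibFlat f h F x} ∩
          (f ≫ h) ⁻¹' (ι '' ((UT : Set ↥(Spec (.of (A ⧸ p))))ᶜ))) ∪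
          eX '' ({z : ↥(pullback f eY) | FlatMod.IsFlatOverAt fT FT z} ∩
            (fT ≫ hT') ⁻¹' (UT : Set ↥(Spec (.of (A ⧸ p))))) := by
      ext x
      simp only [Set.mem_inter_iff, Set.mem_ofPred_eq, Set.mem_preimage, Set.mem_union,
        Set.mem_image]
      constructor
      · rintro ⟨hx, hxT⟩
        rw [← hrange] at hxT
        obtain ⟨t, ht⟩ := hxT
        by_cases htU : t ∈ UT
        · right
          obtain ⟨z, hz1, hz2⟩ := exists_preimage_of_isPullback hXS x t ht.symm
          have hzU : (fT ≫ hT') z ∈ UT := by rw [hz2]; exact htU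
          refine ⟨z, ⟨?_, hzU⟩, hz1⟩
          rw [← hcrit z hzU, hbc z, hz1]
          exact hx
        · left
          exact ⟨hx, t, htU, ht⟩
      · rintro (⟨hx, t, -, ht⟩ | ⟨z, ⟨hz, hzU⟩, rfl⟩)
        · refine ⟨hx, ?_⟩
          rw [← hrange, ← ht]; exact Set.mem_range_self t
        · refine ⟨(hbc z).mp ((hcrit z hzU).mpr hz), ?_⟩
          rw [← hrange]
          refine ⟨(fT ≫ hT') z, ?_⟩
          have := congrArg (fun φ : pullback f eY ⟶ Spec A => φ z) hXS.w
          exact this.symm
    rw [hdecomp]
    exact ih'.union hpiece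

end Groth.Agent.H70.FibFlat
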