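import Groth.Agent.H70.RelFlatBC.FibreAlg

/-!
# Flatness of `M / I M` over `B / I` versus flatness on the fibre: the equivalence (helper70)
-/

set_option autoImplicit false
set_option linter.style.haveILetI false

open TensorProduct Function

namespace Groth.Agent.H70.FibFlat

universe u

section main

variable {B C B₀ C₀ : Type u} [CommRing B] [CommRing C] [CommRing B₀] [CommRing C₀]
  [Algebra B C] [Algebra B B₀] [Algebra C C₀] [Algebra B₀ C₀] [Algebra B C₀]
  [IsScalarTower B C C₀] [IsScalarTower B B₀ C₀]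
  {M : Type u} [AddCommGroup M] [Module C M] [Module B M] [IsScalarTower B C M]
  {M₀ : Type u} [AddCommGroup M₀] [Module C₀ M₀] [Module B₀ M₀] [IsScalarTower B₀ C₀ M₀]

open Groth.Agent.H70.RelFlatBC in
set_option maxHeartbeats 800000 in
/-- flatness of `M / I M` over `B / I` is flatness of `M₀ = C₀ ⊗[C] M` over `B₀ = B / I`. -/
theorem flat_quotient_iff_square_module (I : Ideal B)
    (ha : Surjective (algebraMap B B₀)) (hb : Surjective (algebraMap C C₀))
    (hka : RingHom.ker (algebraMap B B₀) = I)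
    (hkb : RingHom.ker (algebraMap C C₀) = I.map (algebraMap B C))
    (e : C₀ ⊗[C] M ≃ₗ[C₀] M₀) :
    Module.Flat (B ⧸ I) (M ⧸ (I • ⊤ : Submodule B M)) ↔ Module.Flat B₀ M₀ := by
  -- module structures on `M₀`
  letI modCM₀ : Module C M₀ := Module.compHom M₀ (algebraMap C C₀)
  haveI : IsScalarTower C C₀ M₀ := IsScalarTower.of_algebraMap_smul (fun r m => rfl)
  letI modBM₀ : Module B M₀ := Module.compHom M₀ (algebraMap B C₀)
  haveI : IsScalarTower B C₀ M₀ := IsScalarTower.of_algebraMap_smul (fun r m => rfl)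
  haveI : IsScalarTower B C M₀ := IsScalarTower.of_algebraMap_smul (fun r m => by
    change algebraMap C C₀ (algebraMap B C r) • m = algebraMap B C₀ r • m
    rw [← IsScalarTower.algebraMap_apply])
  haveI : IsScalarTower B B₀ M₀ := IsScalarTower.of_algebraMap_smul (fun r m => by
    change algebraMap B B₀ r • m = algebraMap B C₀ r • m
    rw [IsScalarTower.algebraMap_apply B B₀ C₀]
    exact (algebraMap_smul C₀ (algebraMap B B₀ r) m).symm)
  -- the map `M → M₀`
  let ι : M →ₗ[C] M₀ := (e.restrictScalars C).toLinearMap ∘ₗ (TensorProduct.mk C C₀ M 1)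
  let ιB : M →ₗ[B] M₀ := ι.restrictScalars B
  have hι : ∀ m, ιB m = e ((1 : C₀) ⊗ₜ[C] m) := fun m => rfl
  have hsurj : Surjective ιB := by
    intro m₀
    obtain ⟨t, rfl⟩ := e.surjective m₀
    obtain ⟨m, rfl⟩ := exists_one_tmul_eq hb t
    exact ⟨m, rfl⟩
  have hker : LinearMap.ker ιB = (I • ⊤ : Submodule B M) := by
    ext m
    rw [LinearMap.mem_ker, hι, LinearEquiv.map_eq_zero_iff, one_tmul_eq_zero_iff hb, hkb,
      ← Submodule.restrictScalars_mem B, Ideal.smul_restrictScalars,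
      Submodule.restrictScalars_top]
  let Eq : (M ⧸ (I • ⊤ : Submodule B M)) ≃ₗ[B] M₀ :=
    (Submodule.quotEquivOfEq _ _ hker.symm) ≪≫ₗ ιB.quotKerEquivOfSurjective hsurj
  -- `M₀` as a `B ⧸ I`-module
  let τ : B ⧸ I →+* B₀ := Ideal.Quotient.lift I (algebraMap B B₀) (fun z hz => by
    rw [← hka] at hz
    exact hz)
  have hτ : Bijective τ := by
    constructor
    · rw [injective_iff_map_eq_zero]
      intro z hz
      obtain ⟨z, rfl⟩ := Ideal.Quotient.mk_surjective z
      rw [Ideal.Quotient.eq_zero_iff_mem, ← hka]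
      exact hz
    · intro z₀
      obtain ⟨z, rfl⟩ := ha z₀
      exact ⟨Ideal.Quotient.mk I z, rfl⟩
  letI algQB₀ : Algebra (B ⧸ I) B₀ := τ.toAlgebra
  letI modQM₀ : Module (B ⧸ I) M₀ := Module.compHom M₀ τ
  haveI : IsScalarTower (B ⧸ I) B₀ M₀ := IsScalarTower.of_algebraMap_smul (fun r m => rfl)
  haveI : IsScalarTower B (B ⧸ I) M₀ := IsScalarTower.of_algebraMap_smul (fun r m => by
    change τ (Ideal.Quotient.mk I r) • m = r • m
    rw [Ideal.Quotient.lift_mk]
    exact algebraMap_smul B₀ r m)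
  let EqQ : (M ⧸ (I • ⊤ : Submodule B M)) ≃ₗ[B ⧸ I] M₀ :=
    Eq.extendScalarsOfSurjective Ideal.Quotient.mk_surjective
  let σ : (B ⧸ I) ≃ₐ[B ⧸ I] B₀ := AlgEquiv.ofBijective (Algebra.ofId (B ⧸ I) B₀) hτ
  haveI : IsLocalization (⊥ : Submonoid (B ⧸ I)) (B ⧸ I) :=
    IsLocalization.self (by
      intro x hx
      rw [Submonoid.mem_bot] at hx
      rw [hx]
      exact isUnit_one)
  haveI : IsLocalization (⊥ : Submonoid (B ⧸ I)) B₀ :=
    IsLocalization.isLocalization_of_algEquiv _ σ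
  rw [Module.flat_iff_of_isLocalization B₀ (⊥ : Submonoid (B ⧸ I)) M₀]
  exact ⟨fun _ => Module.Flat.of_linearEquiv EqQ.symm, fun _ => Module.Flat.of_linearEquiv EqQ⟩

end main

end Groth.Agent.H70.FibFlat
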