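import Groth.Agent.H70.FibFlat.QuotGeo
import Groth.Agent.H70.FibFlat.LocFree

/-!
# Fibrewise flatness in terms of the local rings (helper70)

`F_s` is flat over `Y_s` at `x` iff `F_x / 𝔪_s F_x` is flat over `O_{Y,y} / 𝔪_s O_{Y,y}`; the set of
`s ∈ S` over which `F_s` is `f_s`-flat is locally constructible (EGA IV 11.2.8).
-/

set_option autoImplicit false
set_option linter.style.haveILetI false

open CategoryTheory Limits AlgebraicGeometry TopologicalSpace Opposite Topology IsLocalRing
open Groth.Agent.H49.FibreStalk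

namespace Groth.Agent.H70.FibFlat

universe u

variable {X Y S : Scheme.{u}}

/-- `F_x / 𝔪_s F_x` is flat over `O_{Y,y} / 𝔪_s O_{Y,y}`. -/
def QuotFlat (f : X ⟶ Y) (h : Y ⟶ S) (F : X.Modules) (x : X) : Prop :=
  letI := FlatMod.moduleStalkOver f F x
  Module.Flat (Y.presheaf.stalk (f x) ⧸ fibreIdeal h (f x))
    (F.presheaf.stalk x ⧸ (fibreIdeal h (f x) •
      (⊤ : Submodule (Y.presheaf.stalk (f x)) (F.presheaf.stalk x))))

theorem fibFlat_iff_quotFlat (f : X ⟶ Y) (h : Y ⟶ S) (F : X.Modules) [F.IsQuasicoherent]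
    (x : X) : FibFlat f h F x ↔ QuotFlat f h F x := by
  have key : FibFlat f h F x ↔ QuotFlat f h F ((f ≫ h).fiberι ((f ≫ h) x) ((f ≫ h).asFiber x)) :=
    isFlatOverAt_fiber_iff_flat_quotient f h ((f ≫ h) x) F ((f ≫ h).asFiber x)
  rw [Scheme.Hom.fiberι_asFiber] at key
  exact key

/-- the set of points of the base over which `F_s` is `f_s`-flat is locally constructible. -/
theorem isLocallyConstructible_setOf_forall_quotFlat (f : X ⟶ Y) (h : Y ⟶ S)
    [LocallyOfFinitePresentation h] [LocallyOfFinitePresentation (f ≫ h)] [QuasiCompact (f ≫ h)]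
    (F : X.Modules) [F.IsQuasicoherent]
    [SheafOfModules.IsFinitePresentation (R := X.ringCatSheaf) F] :
    IsLocallyConstructible {s : S | ∀ x : X, (f ≫ h) x = s → QuotFlat f h F x} := by
  have hset : {s : S | ∀ x : X, (f ≫ h) x = s → QuotFlat f h F x} =
      ((f ≫ h) '' {x : X | FibFlat f h F x}ᶜ)ᶜ := by
    ext s
    rw [Set.mem_ofPred_eq, Set.mem_compl_iff, Set.mem_image]
    constructor
    · rintro H ⟨x, hx, rfl⟩
      exact hx ((fibFlat_iff_quotFlat f h F x).mpr (H x rfl))
    · intro H x hx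
      by_contra hc
      exact H ⟨x, fun hfl => hc ((fibFlat_iff_quotFlat f h F x).mp hfl), hx⟩
  rw [hset]
  exact isLocallyConstructible_compl ((f ≫ h).isLocallyConstructible_image
    (isLocallyConstructible_compl (isLocallyConstructible f h F)))

end Groth.Agent.H70.FibFlat
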