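import Groth.Agent.H1.FibreCritStalk
import Groth.Agent.H71.QCoh.StalkPullback
import Groth.Agent.H70.RelFlatBC.FibreGeo
import Groth.Agent.H70.FibFlat.QuotAlg

/-!
# Relative flatness on the fibre is flatness of `F_x / 𝔪_s F_x` over `O_{Y,y} / 𝔪_s O_{Y,y}` (helper70)
-/

set_option autoImplicit false
set_option linter.style.haveILetI false

open CategoryTheory Limits AlgebraicGeometry TopologicalSpace Opposite TensorProduct IsLocalRing
open Groth.Agent.H49.FibreStalk Groth.Agent.H1.FibreCrit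

namespace Groth.Agent.H70.FibFlat

open Groth.Agent.H70.RelFlatBC

universe u

variable {X Y S : Scheme.{u}} (f : X ⟶ Y) (g : Y ⟶ S) (s : S)

set_option maxHeartbeats 1600000 in
/-- the pullback of `F` to the fibre `X_s` is flat over `Y_s` at `x₀` iff
`F_x / 𝔪_s F_x` is flat over `O_{Y,y} / 𝔪_s O_{Y,y}` for `x` the image of `x₀`. -/
theorem isFlatOverAt_fiber_iff_flat_quotient (F : X.Modules) [F.IsQuasicoherent]
    (x₀ : ((f ≫ g).fiber s : Scheme.{u})) :
    FlatMod.IsFlatOverAt (MoreMor.fiberMap f g s)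
      ((Scheme.Modules.pullback ((f ≫ g).fiberι s)).obj F) x₀ ↔
    letI := FlatMod.moduleStalkOver f F ((f ≫ g).fiberι s x₀)
    Module.Flat
      (Y.presheaf.stalk (f ((f ≫ g).fiberι s x₀)) ⧸ fibreIdeal g (f ((f ≫ g).fiberι s x₀)))
      (F.presheaf.stalk ((f ≫ g).fiberι s x₀) ⧸
        (fibreIdeal g (f ((f ≫ g).fiberι s x₀)) •
          (⊤ : Submodule (Y.presheaf.stalk (f ((f ≫ g).fiberι s x₀)))
            (F.presheaf.stalk ((f ≫ g).fiberι s x₀))))) := by
  letI modBM := FlatMod.moduleStalkOver f F ((f ≫ g).fiberι s x₀)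
  -- the two descriptions of the image point in `Y`
  have hpt : f ((f ≫ g).fiberι s x₀) = g.fiberι s (MoreMor.fiberMap f g s x₀) := by
    have := congrArg (fun φ : ((f ≫ g).fiber s : Scheme.{u}) ⟶ Y => φ x₀) (fiberMap_fiberι f g s)
    exact this.symm
  -- the comparison of stalk maps
  have hcong := Scheme.Hom.stalkMap_congr_hom ((f ≫ g).fiberι s ≫ f)
    (MoreMor.fiberMap f g s ≫ g.fiberι s) (fiberMap_fiberι f g s).symm x₀
  rw [Scheme.Hom.stalkMap_comp, Scheme.Hom.stalkMap_comp] at hcong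
  -- the maps
  let a₁ : Y.presheaf.stalk (f ((f ≫ g).fiberι s x₀)) →+*
      (g.fiber s).presheaf.stalk (MoreMor.fiberMap f g s x₀) :=
    ((g.fiberι s).stalkMap (MoreMor.fiberMap f g s x₀)).hom.comp
      (Y.presheaf.stalkCongr (.of_eq hpt)).hom.hom
  let b : X.presheaf.stalk ((f ≫ g).fiberι s x₀) →+*
      ((f ≫ g).fiber s).presheaf.stalk x₀ :=
    (((f ≫ g).fiberι s).stalkMap x₀).hom
  have ha : Function.Surjective a₁ := by
    intro z
    obtain ⟨w, hw⟩ := (g.fiberι s).stalkMap_surjective (MoreMor.fiberMap f g s x₀) z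
    obtain ⟨v, hv⟩ := (ConcreteCategory.bijective_of_isIso
      (Y.presheaf.stalkCongr (Inseparable.of_eq hpt)).hom).2 w
    refine ⟨v, ?_⟩
    change ((g.fiberι s).stalkMap (MoreMor.fiberMap f g s x₀)).hom
      ((Y.presheaf.stalkCongr (Inseparable.of_eq hpt)).hom.hom v) = z
    rw [← hw]
    exact congrArg _ hv
  have hb : Function.Surjective b := ((f ≫ g).fiberι s).stalkMap_surjective x₀
  have hka : RingHom.ker a₁ = fibreIdeal g (f ((f ≫ g).fiberι s x₀)) := by
    rw [← comap_stalkCongr_fibreIdeal g hpt,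
      ← ker_stalkMap_fiberι g s (MoreMor.fiberMap f g s x₀), ← RingHom.comap_ker]
  letI algBC : Algebra (Y.presheaf.stalk (f ((f ≫ g).fiberι s x₀)))
      (X.presheaf.stalk ((f ≫ g).fiberι s x₀)) := (f.stalkMap ((f ≫ g).fiberι s x₀)).hom.toAlgebra
  have hkb : RingHom.ker b = (fibreIdeal g (f ((f ≫ g).fiberι s x₀))).map
      (algebraMap (Y.presheaf.stalk (f ((f ≫ g).fiberι s x₀)))
        (X.presheaf.stalk ((f ≫ g).fiberι s x₀))) := by
    change RingHom.ker (((f ≫ g).fiberι s).stalkMap x₀).hom =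
      Ideal.map (f.stalkMap ((f ≫ g).fiberι s x₀)).hom
        (Ideal.map (g.stalkMap (f ((f ≫ g).fiberι s x₀))).hom (maximalIdeal _))
    rw [Ideal.map_map, ker_stalkMap_fiberι (f ≫ g) s x₀, fibreIdeal, Scheme.Hom.stalkMap_comp]
    rfl
  have hcomm : ∀ z : Y.presheaf.stalk (f ((f ≫ g).fiberι s x₀)),
      ((MoreMor.fiberMap f g s).stalkMap x₀).hom (a₁ z) =
        b (algebraMap (Y.presheaf.stalk (f ((f ≫ g).fiberι s x₀)))
          (X.presheaf.stalk ((f ≫ g).fiberι s x₀)) z) := by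
    intro z
    have := congrArg (fun ψ => ψ.hom z) hcong
    exact this.symm
  -- algebra structures
  letI algBB₀ : Algebra (Y.presheaf.stalk (f ((f ≫ g).fiberι s x₀)))
      ((g.fiber s).presheaf.stalk (MoreMor.fiberMap f g s x₀)) := a₁.toAlgebra
  letI algCC₀ : Algebra (X.presheaf.stalk ((f ≫ g).fiberι s x₀))
      (((f ≫ g).fiber s).presheaf.stalk x₀) := b.toAlgebra
  letI algB₀C₀ : Algebra ((g.fiber s).presheaf.stalk (MoreMor.fiberMap f g s x₀))
      (((f ≫ g).fiber s).presheaf.stalk x₀) :=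
    ((MoreMor.fiberMap f g s).stalkMap x₀).hom.toAlgebra
  letI algBC₀ : Algebra (Y.presheaf.stalk (f ((f ≫ g).fiberι s x₀)))
      (((f ≫ g).fiber s).presheaf.stalk x₀) :=
    (b.comp (algebraMap (Y.presheaf.stalk (f ((f ≫ g).fiberι s x₀)))
      (X.presheaf.stalk ((f ≫ g).fiberι s x₀)))).toAlgebra
  haveI : IsScalarTower (Y.presheaf.stalk (f ((f ≫ g).fiberι s x₀)))
      (X.presheaf.stalk ((f ≫ g).fiberι s x₀)) (((f ≫ g).fiber s).presheaf.stalk x₀) :=
    IsScalarTower.of_algebraMap_eq (fun _ => rfl)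
  haveI : IsScalarTower (Y.presheaf.stalk (f ((f ≫ g).fiberι s x₀)))
      ((g.fiber s).presheaf.stalk (MoreMor.fiberMap f g s x₀))
      (((f ≫ g).fiber s).presheaf.stalk x₀) :=
    IsScalarTower.of_algebraMap_eq (fun z => (hcomm z).symm)
  -- module structures
  haveI : IsScalarTower (Y.presheaf.stalk (f ((f ≫ g).fiberι s x₀)))
      (X.presheaf.stalk ((f ≫ g).fiberι s x₀)) (F.presheaf.stalk ((f ≫ g).fiberι s x₀)) :=
    IsScalarTower.of_algebraMap_smul (fun r m => rfl)
  letI modB₀M₀ : Module ((g.fiber s).presheaf.stalk (MoreMor.fiberMap f g s x₀))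
      (((Scheme.Modules.pullback ((f ≫ g).fiberι s)).obj F).presheaf.stalk x₀) :=
    FlatMod.moduleStalkOver (MoreMor.fiberMap f g s)
      ((Scheme.Modules.pullback ((f ≫ g).fiberι s)).obj F) x₀
  haveI : IsScalarTower ((g.fiber s).presheaf.stalk (MoreMor.fiberMap f g s x₀))
      (((f ≫ g).fiber s).presheaf.stalk x₀)
      (((Scheme.Modules.pullback ((f ≫ g).fiberι s)).obj F).presheaf.stalk x₀) :=
    IsScalarTower.of_algebraMap_smul (fun r m => rfl)
  obtain ⟨e⟩ := Groth.Agent.H71.QCoh.exists_stalkPullbackEquiv ((f ≫ g).fiberι s) F x₀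
  exact (flat_quotient_iff_square_module (fibreIdeal g (f ((f ≫ g).fiberι s x₀)))
    ha hb hka hkb e).symm

end Groth.Agent.H70.FibFlat
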